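import Cfsg.Agent.Lib.MultM22.Check3Step

/-!
Kernel checks of the tables with shift of order 3.
-/

set_option autoImplicit false
set_option maxRecDepth 100000

namespace Cfsg.Agent.MultM22

theorem raw3_group : raw3.groupOk = true := by decide +kernel

theorem raw3_ok : raw3.Ok where
  group := raw3_group
  coset := raw3_coset
  step g hg := by
    have : g < 2 := hg
    interval_cases g
    exacts [raw3_step0, raw3_step1]

theorem raw3_wit :
    raw3.witOk (raw3U.map Fin.val) (raw3V.map Fin.val) 2 = true := by
  decide +kernel

end Cfsg.Agent.MultM22
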