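import Cfsg.Agent.Lib.MultM22.Data4

/-!
Kernel checks of the tables with shift of order 4.
-/

set_option autoImplicit false
set_option maxRecDepth 100000

namespace Cfsg.Agent.MultM22

theorem raw4_coset : raw4.cosetOk = true := by decide +kernel

theorem raw4_step0 : raw4.stepOk 0 = true := by decide +kernel

theorem raw4_step1 : raw4.stepOk 1 = true := by decide +kernel

end Cfsg.Agent.MultM22
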