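import Cfsg.Agent.Lib.MultM22.Check4
import Cfsg.Agent.Lib.MultM22.Check3
import Cfsg.Prelude.Def_KGroupFacts

/-!
A stem extension of M22 with cyclic kernel of order twelve, inside the product of the two induced
central extensions.
-/

set_option autoImplicit false

namespace Cfsg.Agent.MultM22

open Cfsg Cfsg.Agent.Golay24
open scoped commutatorElement

noncomputable section

/-- The datum with shift of order four. -/
abbrev datum4 : Datum (Equiv.Perm GolayPt) := Raw.datum raw4_ok

/-- The datum with shift of order three. -/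
abbrev datum3 : Datum (Equiv.Perm GolayPt) := Raw.datum raw3_ok

/-- The product of the two extensions. -/
abbrev Both : Type := datum4.Ext × datum3.Ext

/-- The pair of lifts of a generator. -/
def pairG (g : Fin 2) : Both :=
  (QuotientGroup.mk (Raw.liftG raw4_ok g), QuotientGroup.mk (Raw.liftG raw3_ok g))

/-- The subgroup generated by the pairs. -/
def pairs : Subgroup Both := Subgroup.closure (Set.range pairG)

/-- A generator as an element of that subgroup. -/
def pairP (g : Fin 2) : ↥pairs := ⟨pairG g, Subgroup.subset_closure ⟨g, rfl⟩⟩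

theorem gens4 : raw4.gens = m22Cert.gens := rfl

theorem gens3 : raw3.gens = m22Cert.gens := rfl

/-- The projection to the permutations. -/
def toGrp : ↥pairs →* Equiv.Perm GolayPt := (datum4.pi.comp (MonoidHom.fst _ _)).comp pairs.subtype

theorem toGrp_pairP (g : Fin 2) : toGrp (pairP g) = toPerm (m22Cert.gens.getD g 0) := by
  rw [← gens4]; rfl

theorem toGrp_eq (x : ↥pairs) : toGrp x = datum3.pi x.1.2 := by
  have h : Set.EqOn (datum4.pi.comp (MonoidHom.fst datum4.Ext datum3.Ext))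
      (datum3.pi.comp (MonoidHom.snd datum4.Ext datum3.Ext)) (Set.range pairG) := by
    rintro _ ⟨g, rfl⟩
    show toPerm (raw4.gens.getD g 0) = toPerm (raw3.gens.getD g 0)
    rw [gens4, gens3]
  exact MonoidHom.eqOn_closure h x.2

theorem gens_eq : {p | ∃ u ∈ m22Cert.gens, toPerm u = p} =
    Set.range fun g : Fin 2 => toPerm (m22Cert.gens.getD g 0) := by
  ext p
  constructor
  · rintro ⟨u, hu, rfl⟩
    obtain ⟨i, hi, rfl⟩ := List.getElem_of_mem hu
    exact ⟨⟨i, hi⟩, by simp [List.getD_eq_getElem, hi]⟩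
  · rintro ⟨g, rfl⟩
    refine ⟨_, ?_, rfl⟩
    fin_cases g <;> simp [m22Cert]

theorem toGrp_range : toGrp.range = Spor.M22 := by
  have e : (⊤ : Subgroup ↥pairs) = Subgroup.closure (Set.range pairP) := by
    refine (Subgroup.closure_closure_coe_preimage (k := Set.range pairG)).symm.trans ?_
    congr 1
    ext x
    exact ⟨fun ⟨g, hg⟩ => ⟨g, Subtype.ext hg⟩, fun ⟨g, hg⟩ => ⟨g, hg ▸ rfl⟩⟩
  rw [MonoidHom.range_eq_map, e, MonoidHom.map_closure, ← m22_grp, GenCert.grp]
  congr 1
  rw [← Set.range_comp, gens_eq]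
  exact congrArg Set.range (funext toGrp_pairP)

/-- The projection to M22. -/
def toM22 : ↥pairs →* ↥Spor.M22 :=
  toGrp.codRestrict Spor.M22 fun x => toGrp_range ▸ MonoidHom.mem_range.2 ⟨x, rfl⟩

theorem toM22_surjective : Function.Surjective toM22 := fun g => by
  obtain ⟨x, hx⟩ : g.1 ∈ toGrp.range := toGrp_range.symm ▸ g.2
  exact ⟨x, Subtype.ext hx⟩

theorem ker_parts {x : ↥pairs} (hx : toM22 x = 1) :
    x.1.1 ∈ datum4.pi.ker ∧ x.1.2 ∈ datum3.pi.ker := by
  have h : toGrp x = 1 := congrArg Subtype.val hx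
  exact ⟨h, by rw [MonoidHom.mem_ker, ← toGrp_eq, h]⟩

theorem toM22_ker_central : toM22.ker ≤ Subgroup.center ↥pairs := by
  intro x hx
  obtain ⟨h4, h3⟩ := ker_parts hx
  rw [Subgroup.mem_center_iff]
  intro y
  exact Subtype.ext (Prod.ext (Subgroup.mem_center_iff.1 (datum4.pi_ker_central h4) _)
    (Subgroup.mem_center_iff.1 (datum3.pi_ker_central h3) _))

theorem M22_perfect : commutator ↥Spor.M22 = ⊤ := by
  haveI := M22_simple
  rcases Subgroup.Normal.eq_bot_or_eq_top (H := commutator ↥Spor.M22) inferInstance with h | h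
  · exfalso
    have hg : ∀ g : Fin 2, toPerm (m22Cert.gens.getD g 0) ∈ Spor.M22 := fun g =>
      m22_gens (by fin_cases g <;> simp [m22Cert])
    have h1 : ⁅(⟨_, hg 0⟩ : ↥Spor.M22), ⟨_, hg 1⟩⁆ ∈ commutator ↥Spor.M22 :=
      Subgroup.commutator_mem_commutator (Subgroup.mem_top _) (Subgroup.mem_top _)
    rw [h, Subgroup.mem_bot, commutatorElement_eq_one_iff_mul_comm] at h1
    have h2 : compP (m22Cert.gens.getD 0 0) (m22Cert.gens.getD 1 0) ≠
        compP (m22Cert.gens.getD 1 0) (m22Cert.gens.getD 0 0) := by decide +kernel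
    have hv : validP (m22Cert.gens.getD 0 0) = true ∧ validP (m22Cert.gens.getD 1 0) = true ∧
        compP (compP (m22Cert.gens.getD 0 0) (m22Cert.gens.getD 1 0)) idP =
          compP (m22Cert.gens.getD 0 0) (m22Cert.gens.getD 1 0) ∧
        compP (compP (m22Cert.gens.getD 1 0) (m22Cert.gens.getD 0 0)) idP =
          compP (m22Cert.gens.getD 1 0) (m22Cert.gens.getD 0 0) := by decide +kernel
    refine h2 (toPerm_inj (validP_compP hv.1 hv.2.1) (validP_compP hv.2.1 hv.1) hv.2.2.1 hv.2.2.2 ?_)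
    rw [toPerm_compP hv.1 hv.2.1, toPerm_compP hv.2.1 hv.1]
    exact congrArg Subtype.val h1
  · exact h

/-- The cover. -/
abbrev Cover : Type := ↥(commutator ↥pairs)

/-- The cover map. -/
def coverHom : Cover →* ↥Spor.M22 := toM22.comp (commutator ↥pairs).subtype

theorem coverHom_surjective : Function.Surjective coverHom := fun g => by
  have h : (commutator ↥pairs).map toM22 = ⊤ := by
    rw [commutator_def, Subgroup.map_commutator, Subgroup.map_top_of_surjective _ toM22_surjective,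
      ← commutator_def, M22_perfect]
  obtain ⟨x, hx, e⟩ : g ∈ (commutator ↥pairs).map toM22 := h ▸ Subgroup.mem_top g
  exact ⟨⟨x, hx⟩, e⟩

theorem cover_perfect : commutator Cover = ⊤ := by
  have hmap : (commutator Cover).map (commutator ↥pairs).subtype = commutator ↥pairs := by
    rw [Subgroup.map_subtype_commutator]
    refine le_antisymm (Subgroup.commutator_mono le_top le_top) ?_
    conv_lhs => rw [commutator_def]
    rw [Subgroup.commutator_le]
    intro x _ y _
    obtain ⟨⟨a, ha⟩, ea⟩ := coverHom_surjective (toM22 x)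
    obtain ⟨⟨b, hb⟩, eb⟩ := coverHom_surjective (toM22 y)
    change toM22 a = toM22 x at ea
    change toM22 b = toM22 y at eb
    have cx := Subgroup.mem_center_iff.1 (toM22_ker_central (show a⁻¹ * x ∈ toM22.ker by
      rw [MonoidHom.mem_ker, map_mul, map_inv, ea, inv_mul_cancel]))
    have cy := Subgroup.mem_center_iff.1 (toM22_ker_central (show b⁻¹ * y ∈ toM22.ker by
      rw [MonoidHom.mem_ker, map_mul, map_inv, eb, inv_mul_cancel]))
    have e : ⁅x, y⁆ = ⁅a, b⁆ := by
      generalize hz : a⁻¹ * x = z at cx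
      generalize hw : b⁻¹ * y = w at cy
      rw [inv_mul_eq_iff_eq_mul] at hz hw
      subst hz hw
      simp only [commutatorElement_def, mul_inv_rev]
      calc a * z * (b * w) * (z⁻¹ * a⁻¹) * (w⁻¹ * b⁻¹)
          = a * (z * (b * w)) * z⁻¹ * a⁻¹ * w⁻¹ * b⁻¹ := by group
        _ = a * (b * w * z) * z⁻¹ * a⁻¹ * w⁻¹ * b⁻¹ := by rw [← cx]
        _ = a * b * (w * a⁻¹) * w⁻¹ * b⁻¹ := by group
        _ = a * b * (a⁻¹ * w) * w⁻¹ * b⁻¹ := by rw [← cy]
        _ = _ := by group
    rw [e]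
    exact Subgroup.commutator_mem_commutator ha hb
  refine Subgroup.map_injective (commutator ↥pairs).subtype_injective ?_
  rw [hmap, ← MonoidHom.range_eq_map, Subgroup.range_subtype]

theorem coverHom_stem : IsStemExtension coverHom :=
  ⟨coverHom_surjective, fun x hx => Subgroup.mem_center_iff.2 fun y => Subtype.ext
    (Subgroup.mem_center_iff.1 (toM22_ker_central (show x.1 ∈ toM22.ker from hx)) y.1),
    cover_perfect ▸ le_top⟩

/-- The quotient of two words in the pairs. -/
def wit (u v : List (Fin 2)) : ↥pairs := (u.map pairP).prod * ((v.map pairP).prod)⁻¹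

theorem wit_parts (u v : List (Fin 2)) :
    (wit u v).1.1 = QuotientGroup.mk (Raw.liftW raw4_ok u * (Raw.liftW raw4_ok v)⁻¹) ∧
    (wit u v).1.2 = QuotientGroup.mk (Raw.liftW raw3_ok u * (Raw.liftW raw3_ok v)⁻¹) := by
  have h4 : ∀ w : List (Fin 2),
      ((w.map pairP).prod).1.1 = QuotientGroup.mk (Raw.liftW raw4_ok w) ∧
      ((w.map pairP).prod).1.2 = QuotientGroup.mk (Raw.liftW raw3_ok w) := by
    intro w
    induction w with
    | nil => exact ⟨rfl, rfl⟩
    | cons g w ih =>
      rw [List.map_cons, List.prod_cons, Subgroup.coe_mul, Prod.fst_mul, Prod.snd_mul, ih.1, ih.2]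
      exact ⟨rfl, rfl⟩
  rw [wit, Subgroup.coe_mul, Subgroup.coe_inv, Prod.fst_mul, Prod.snd_mul, Prod.fst_inv,
    Prod.snd_inv, (h4 u).1, (h4 u).2, (h4 v).1, (h4 v).2]
  exact ⟨rfl, rfl⟩

theorem wit_mem {u v : List (Fin 2)} (h : u.Perm v) : wit u v ∈ commutator ↥pairs := by
  rw [← Abelianization.ker_of (G := ↥pairs), MonoidHom.mem_ker, wit, map_mul, map_inv,
    map_list_prod, map_list_prod, List.map_map, List.map_map, mul_inv_eq_one]
  exact (h.map _).prod_eq

theorem pair_gen : ∀ (p q : Multiplicative (ZMod 4) × Multiplicative (ZMod 3)),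
    p.1 = Multiplicative.ofAdd (3 : ZMod 4) → q.2 = Multiplicative.ofAdd (2 : ZMod 3) →
    ∀ t, ∃ k : Fin 12, (p ^ 3 * q ^ 4) ^ (k : ℕ) = t := by
  have h : ∀ (a b : ZMod 4 × ZMod 3), a.1 = 3 → b.2 = 2 →
      ∀ t : ZMod 4 × ZMod 3, ∃ k : Fin 12, (k : ℕ) • (3 • a + 4 • b) = t := by decide +kernel
  intro p q h1 h2 t
  exact h (p.1.toAdd, p.2.toAdd) (q.1.toAdd, q.2.toAdd) (congrArg Multiplicative.toAdd h1)
    (congrArg Multiplicative.toAdd h2) (t.1.toAdd, t.2.toAdd) |>.imp fun k hk =>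
      Prod.ext (congrArg Prod.fst hk) (congrArg Prod.snd hk)

theorem cover_kernel : Nonempty (coverHom.ker ≃* Multiplicative (ZMod 12)) := by
  obtain ⟨f4, f4i, hf4⟩ := datum4.exists_value
  obtain ⟨f3, f3i, hf3⟩ := datum3.exists_value
  let F : coverHom.ker →* Multiplicative (ZMod 4) × Multiplicative (ZMod 3) :=
    MonoidHom.mk' (fun x => (f4 ⟨x.1.1.1.1, (ker_parts (x := x.1.1) x.2).1⟩,
        f3 ⟨x.1.1.1.2, (ker_parts (x := x.1.1) x.2).2⟩)) fun a b => Prod.ext
      ((congrArg f4 (Subtype.ext rfl)).trans (map_mul f4 ⟨a.1.1.1.1, (ker_parts (x := a.1.1) a.2).1⟩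
        ⟨b.1.1.1.1, (ker_parts (x := b.1.1) b.2).1⟩))
      ((congrArg f3 (Subtype.ext rfl)).trans (map_mul f3 ⟨a.1.1.1.2, (ker_parts (x := a.1.1) a.2).2⟩
        ⟨b.1.1.1.2, (ker_parts (x := b.1.1) b.2).2⟩))
  have hFi : Function.Injective F := fun a b h => by
    have h1 := congrArg Subtype.val (f4i (congrArg Prod.fst h))
    have h2 := congrArg Subtype.val (f3i (congrArg Prod.snd h))
    exact Subtype.ext (Subtype.ext (Subtype.ext (Prod.ext h1 h2)))
  -- the two witnesses
  have hp4 : raw4U.Perm raw4V := by decide +kernel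
  have hp3 : raw3U.Perm raw3V := by decide +kernel
  obtain ⟨hu4, hz4⟩ := Raw.witness raw4_ok raw4U raw4V 3 raw4_wit
  obtain ⟨hu3, hz3⟩ := Raw.witness raw3_ok raw3U raw3V 2 raw3_wit
  have hA : coverHom ⟨wit raw4U raw4V, wit_mem hp4⟩ = 1 := Subtype.ext (by
    show datum4.pi (wit raw4U raw4V).1.1 = 1
    rw [(wit_parts _ _).1]
    show datum4.proj _ = 1
    rw [map_mul, map_inv, hu4, mul_inv_cancel])
  have hB : coverHom ⟨wit raw3U raw3V, wit_mem hp3⟩ = 1 := Subtype.ext (by
    show toGrp (wit raw3U raw3V) = 1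
    rw [toGrp_eq, (wit_parts _ _).2]
    show datum3.proj _ = 1
    rw [map_mul, map_inv, hu3, mul_inv_cancel])
  set A : coverHom.ker := ⟨_, hA⟩
  set B : coverHom.ker := ⟨_, hB⟩
  have e4 : (F A).1 = Multiplicative.ofAdd (3 : ZMod 4) := by
    show f4 _ = _
    have hm := (ker_parts (x := wit raw4U raw4V) hA).1
    rw [(wit_parts _ _).1] at hm
    have := hf4 _ hm
    rw [hz4] at this
    exact (congrArg f4 (Subtype.ext (wit_parts _ _).1)).trans this
  have e3 : (F B).2 = Multiplicative.ofAdd (2 : ZMod 3) := by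
    show f3 _ = _
    have hm := (ker_parts (x := wit raw3U raw3V) hB).2
    rw [(wit_parts _ _).2] at hm
    have := hf3 _ hm
    rw [hz3] at this
    exact (congrArg f3 (Subtype.ext (wit_parts _ _).2)).trans this
  have hFs : Function.Surjective F := fun t => by
    obtain ⟨k, hk⟩ := pair_gen (F A) (F B) e4 e3 t
    exact ⟨(A ^ 3 * B ^ 4) ^ (k : ℕ), by rw [map_pow, map_mul, map_pow, map_pow, hk]⟩
  haveI : IsCyclic (Multiplicative (ZMod 4) × Multiplicative (ZMod 3)) :=
    ⟨⟨(Multiplicative.ofAdd 1, Multiplicative.ofAdd 1), by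
      intro t
      obtain ⟨k, hk⟩ : ∃ k : Fin 12, ((Multiplicative.ofAdd (1 : ZMod 4),
          Multiplicative.ofAdd (1 : ZMod 3)) : _ × _) ^ (k : ℕ) = t := by revert t; decide +kernel
      exact hk ▸ pow_mem (Subgroup.mem_zpowers _) _⟩⟩
  exact ⟨(MulEquiv.ofBijective F ⟨hFi, hFs⟩).trans (mulEquivOfCyclicCardEq (by simp))⟩

end

end Cfsg.Agent.MultM22
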