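import Mathlib

/-!
Induced central extensions: monomial permutations of `X × S`, where `S` is the regular point set of
a central extension of a subgroup and `X` labels its cosets, modulo the shifts with sum zero.
-/

set_option autoImplicit false

namespace Cfsg.Agent.MultM22

/-- Coset labels, a subgroup cover acting regularly, and its shift. -/
structure Datum (G : Type*) [Group G] where
  N : ℕ
  S : ℕ
  M : ℕ
  r : ℕ
  t : Fin N → G
  q : Fin S → G
  tau : Equiv.Perm (Fin S)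
  R : Fin r → Equiv.Perm (Fin S)
  val : Fin S → ZMod M
  base : Fin S
  val_base : val base = 0
  val_tau : ∀ s, val (tau s) = val s + 1
  tau_pow : tau ^ M = 1
  tau_R : ∀ i, Commute tau (R i)
  q_tau : ∀ s, q (tau s) = q s
  sep : ∀ x y s s', t x * q s = t y * q s' → x = y ∧ ∃ a : ℕ, s' = (tau ^ a) s
  reach : ∀ P : Fin S → Prop, P base → (∀ s i, P s → P (R i s)) → (∀ s, P s → P (tau s)) → ∀ s, P s

namespace Datum

theorem perm_apply_inv {α : Type*} (h : Equiv.Perm α) (p : α) : h (h⁻¹ p) = p :=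
  h.apply_symm_apply p

variable {G : Type*} [Group G] (D : Datum G)

/-- The points. -/
abbrev Pt : Type := Fin D.N × Fin D.S

/-- The monomial permutations over a group element. -/
structure Good (g : G) (h : Equiv.Perm D.Pt) : Prop where
  compat : ∀ p, D.t (h p).1 * D.q (h p).2 = g * (D.t p.1 * D.q p.2)
  commR : ∀ i p, h (p.1, D.R i p.2) = ((h p).1, D.R i (h p).2)
  commT : ∀ p, h (p.1, D.tau p.2) = ((h p).1, D.tau (h p).2)

variable {D}

theorem Good.one : D.Good 1 1 := ⟨fun _ => (one_mul _).symm, fun _ _ => rfl, fun _ => rfl⟩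

theorem Good.mul {g g' : G} {h h' : Equiv.Perm D.Pt} (a : D.Good g h) (b : D.Good g' h') :
    D.Good (g * g') (h * h') where
  compat p := by rw [Equiv.Perm.mul_apply, a.compat, b.compat, mul_assoc g g']
  commR i p := by rw [Equiv.Perm.mul_apply, b.commR, a.commR]; rfl
  commT p := by rw [Equiv.Perm.mul_apply, b.commT, a.commT]; rfl

theorem Good.inv {g : G} {h : Equiv.Perm D.Pt} (a : D.Good g h) : D.Good g⁻¹ h⁻¹ where
  compat p := by
    have := a.compat (h⁻¹ p)
    rw [perm_apply_inv] at this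
    rw [this, inv_mul_cancel_left]
  commR i p := by
    apply h.injective
    rw [perm_apply_inv, a.commR, perm_apply_inv]
  commT p := by
    apply h.injective
    rw [perm_apply_inv, a.commT, perm_apply_inv]

variable (D)

/-- The monomial group. -/
def K : Subgroup (G × Equiv.Perm D.Pt) where
  carrier := {x | D.Good x.1 x.2}
  one_mem' := Good.one
  mul_mem' := fun a b => a.mul b
  inv_mem' := fun a => a.inv

variable {D}

theorem Good.fst_eq {g : G} {h : Equiv.Perm D.Pt} (a : D.Good g h) (x : Fin D.N) :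
    ∀ s, (h (x, s)).1 = (h (x, D.base)).1 :=
  D.reach _ rfl (fun s i hs => by rw [a.commR i (x, s)]; exact hs)
    (fun s hs => by rw [a.commT (x, s)]; exact hs)

theorem Good.commT_pow {g : G} {h : Equiv.Perm D.Pt} (a : D.Good g h) (x : Fin D.N) (s : Fin D.S) :
    ∀ n : ℕ, h (x, (D.tau ^ n) s) = ((h (x, s)).1, (D.tau ^ n) (h (x, s)).2)
  | 0 => rfl
  | n + 1 => by
    rw [pow_succ', Equiv.Perm.mul_apply, a.commT (x, (D.tau ^ n) s), a.commT_pow x s n]
    rfl

theorem val_tau_pow (s : Fin D.S) : ∀ n : ℕ, D.val ((D.tau ^ n) s) = D.val s + n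
  | 0 => by simp
  | n + 1 => by
    rw [pow_succ', Equiv.Perm.mul_apply, D.val_tau, val_tau_pow s n, Nat.cast_succ, add_assoc]

theorem q_tau_pow (s : Fin D.S) : ∀ n : ℕ, D.q ((D.tau ^ n) s) = D.q s
  | 0 => rfl
  | n + 1 => by rw [pow_succ', Equiv.Perm.mul_apply, D.q_tau, q_tau_pow s n]

/-- A good permutation over the identity shifts each fibre. -/
theorem Good.shift {h : Equiv.Perm D.Pt} (a : D.Good 1 h) (x : Fin D.N) :
    ∃ n : ℕ, ∀ s, h (x, s) = (x, (D.tau ^ n) s) := by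
  have key : ∀ s, (h (x, s)).1 = x ∧ ∃ n : ℕ, (h (x, s)).2 = (D.tau ^ n) s := by
    intro s
    have := a.compat (x, s)
    rw [one_mul] at this
    obtain ⟨e, n, hn⟩ := D.sep _ _ _ _ this.symm
    exact ⟨e.symm, n, hn⟩
  obtain ⟨n, hn⟩ := (key D.base).2
  have hc : ∀ i s, (D.tau ^ n) (D.R i s) = D.R i ((D.tau ^ n) s) := fun i s =>
    Equiv.ext_iff.1 ((D.tau_R i).pow_left n).eq s
  refine ⟨n, D.reach _ (Prod.ext (key _).1 hn) (fun s i hs => ?_) (fun s hs => ?_)⟩
  · rw [a.commR i (x, s), hs, hc]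
  · rw [a.commT (x, s), hs, ← Equiv.Perm.mul_apply, ← Equiv.Perm.mul_apply, ← pow_succ',
      ← pow_succ]

/-- The sum of the shifts. -/
def phi (h : Equiv.Perm D.Pt) : ZMod D.M := ∑ x : Fin D.N, D.val (h (x, D.base)).2

theorem phi_one : phi (1 : Equiv.Perm D.Pt) = 0 :=
  Finset.sum_eq_zero fun _ _ => D.val_base

theorem phi_mul {h k : Equiv.Perm D.Pt} (a : D.Good 1 h) (b : D.Good 1 k) :
    phi (h * k) = phi h + phi k := by
  rw [phi, phi, phi, ← Finset.sum_add_distrib]
  refine Finset.sum_congr rfl fun x _ => ?_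
  obtain ⟨n, hn⟩ := a.shift x
  obtain ⟨m, hm⟩ := b.shift x
  rw [Equiv.Perm.mul_apply, hm, hn, hn, val_tau_pow, val_tau_pow, val_tau_pow, D.val_base]
  ring

theorem phi_inv {h : Equiv.Perm D.Pt} (a : D.Good 1 h) : phi h⁻¹ = -phi h := by
  have ha : D.Good 1 h⁻¹ := by simpa using a.inv
  have := phi_mul ha a
  rw [inv_mul_cancel, phi_one] at this
  exact eq_neg_of_add_eq_zero_left this.symm

theorem phi_conj {g : G} {h k : Equiv.Perm D.Pt} (a : D.Good g h) (b : D.Good 1 k) :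
    phi (h * k * h⁻¹) = phi k := by
  let σ : Fin D.N → Fin D.N := fun x => (h⁻¹ (x, D.base)).1
  let ρ : Fin D.N → Fin D.N := fun y => (h (y, D.base)).1
  have hσ : Function.LeftInverse ρ σ := fun x => by
    show (h (σ x, D.base)).1 = x
    rw [← a.fst_eq (σ x) (h⁻¹ (x, D.base)).2]
    show (h ((h⁻¹ (x, D.base)).1, (h⁻¹ (x, D.base)).2)).1 = x
    rw [Prod.mk.eta, perm_apply_inv]
  have hbij : Function.Bijective σ := Finite.injective_iff_bijective.1 hσ.injective
  rw [phi, phi]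
  refine Fintype.sum_bijective σ hbij _ _ fun x => ?_
  obtain ⟨n, hn⟩ := b.shift (σ x)
  have e : h⁻¹ (x, D.base) = (σ x, (h⁻¹ (x, D.base)).2) := rfl
  rw [Equiv.Perm.mul_apply, Equiv.Perm.mul_apply, e, hn, hn, a.commT_pow, ← e,
    perm_apply_inv, val_tau_pow]

variable (D)

/-- The projection of the monomial group. -/
def proj : ↥D.K →* G := (MonoidHom.fst _ _).comp D.K.subtype

variable {D}

theorem good_of_ker {k : ↥D.K} (hk : D.proj k = 1) : D.Good 1 k.1.2 := by
  have : D.Good k.1.1 k.1.2 := k.2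
  rwa [show k.1.1 = 1 from hk] at this

variable (D)

/-- The shifts with sum zero. -/
def Nk : Subgroup ↥D.K where
  carrier := {k | D.proj k = 1 ∧ phi k.1.2 = 0}
  one_mem' := ⟨map_one _, phi_one⟩
  mul_mem' := fun {a b} ha hb => ⟨by rw [map_mul, ha.1, hb.1, one_mul], by
    show phi (a.1.2 * b.1.2) = 0
    rw [phi_mul (good_of_ker ha.1) (good_of_ker hb.1), ha.2, hb.2, add_zero]⟩
  inv_mem' := fun {a} ha => ⟨by rw [map_inv, ha.1, inv_one], by
    show phi a.1.2⁻¹ = 0
    rw [phi_inv (good_of_ker ha.1), ha.2, neg_zero]⟩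

instance : D.Nk.Normal := ⟨fun k hk x => ⟨by rw [map_mul, map_mul, map_inv, hk.1, mul_one,
    mul_inv_cancel], by
  show phi (x.1.2 * k.1.2 * x.1.2⁻¹) = 0
  rw [phi_conj x.2 (good_of_ker hk.1), hk.2]⟩⟩

/-- The extension. -/
abbrev Ext := ↥D.K ⧸ D.Nk

/-- Its projection. -/
def pi : D.Ext →* G := QuotientGroup.lift D.Nk D.proj fun _ hk => hk.1

theorem pi_ker_central : D.pi.ker ≤ Subgroup.center D.Ext := by
  intro z hz
  obtain ⟨k, rfl⟩ := QuotientGroup.mk_surjective z
  have hk : D.proj k = 1 := hz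
  rw [Subgroup.mem_center_iff]
  intro w
  obtain ⟨x, rfl⟩ := QuotientGroup.mk_surjective w
  rw [← QuotientGroup.mk_mul, ← QuotientGroup.mk_mul, QuotientGroup.eq]
  have hck : D.proj (x * k * x⁻¹) = 1 := by rw [map_mul, map_mul, map_inv, hk, mul_one, mul_inv_cancel]
  refine ⟨by rw [map_mul, map_inv, map_mul, map_mul, hk]; group, ?_⟩
  have e : (x * k)⁻¹ * (k * x) = x⁻¹ * ((x * k * x⁻¹)⁻¹ * k) * x := by group
  show phi ((x * k)⁻¹ * (k * x) : ↥D.K).1.2 = 0
  rw [e]
  show phi (x.1.2⁻¹ * ((x * k * x⁻¹).1.2⁻¹ * k.1.2) * x.1.2) = 0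
  have hgood : D.Good 1 ((x * k * x⁻¹).1.2⁻¹ * k.1.2) := by
    simpa using (good_of_ker hck).inv.mul (good_of_ker hk)
  have hc := phi_conj (x⁻¹).2 hgood
  simp only [Subgroup.coe_inv, Prod.snd_inv, inv_inv] at hc
  have hi : D.Good 1 (x * k * x⁻¹).1.2⁻¹ := by simpa using (good_of_ker hck).inv
  rw [hc, phi_mul hi (good_of_ker hk), phi_inv (good_of_ker hck),
    show (x * k * x⁻¹).1.2 = x.1.2 * k.1.2 * x.1.2⁻¹ from rfl, phi_conj x.2 (good_of_ker hk),
    neg_add_cancel]

/-- The value of a kernel element. -/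
theorem exists_value : ∃ f : D.pi.ker →* Multiplicative (ZMod D.M), Function.Injective f ∧
    ∀ (k : ↥D.K) (hk : (QuotientGroup.mk k : D.Ext) ∈ D.pi.ker),
      f ⟨QuotientGroup.mk k, hk⟩ = Multiplicative.ofAdd (phi k.1.2) := by
  let P : ↥D.proj.ker →* Multiplicative (ZMod D.M) :=
    MonoidHom.mk' (fun k => Multiplicative.ofAdd (phi k.1.1.2)) fun a b => by
      show Multiplicative.ofAdd (phi (a.1.1.2 * b.1.1.2)) = _
      rw [phi_mul (good_of_ker a.2) (good_of_ker b.2), ofAdd_add]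
  have hsec : ∀ z : D.pi.ker, ∃ k : ↥D.proj.ker, (QuotientGroup.mk k.1 : D.Ext) = z.1 := fun z => by
    obtain ⟨k, hk⟩ := QuotientGroup.mk_surjective z.1
    have : D.pi (QuotientGroup.mk k) = 1 := by rw [hk]; exact z.2
    exact ⟨⟨k, this⟩, hk⟩
  choose sec hs using hsec
  have hwd : ∀ a b : ↥D.proj.ker, (QuotientGroup.mk a.1 : D.Ext) = QuotientGroup.mk b.1 →
      P a = P b := by
    intro a b h
    have hab : P (a⁻¹ * b) = 1 := by
      have := (QuotientGroup.eq.1 h).2
      show Multiplicative.ofAdd (phi (a.1⁻¹ * b.1).1.2) = 1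
      rw [this]
      rfl
    rw [map_mul, map_inv, inv_mul_eq_one] at hab
    exact hab
  refine ⟨MonoidHom.mk' (fun z => P (sec z)) fun a b => ?_, fun a b h => ?_, fun k hk => ?_⟩
  · rw [← map_mul]
    exact hwd _ _ (by
      rw [hs, Subgroup.coe_mul, Subgroup.coe_mul, QuotientGroup.mk_mul, hs, hs])
  · apply Subtype.ext
    rw [← hs a, ← hs b, QuotientGroup.eq]
    refine ⟨by rw [map_mul, map_inv, (sec a).2, (sec b).2]; group, ?_⟩
    have : P ((sec a)⁻¹ * sec b) = 1 := by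
      rw [map_mul, map_inv, inv_mul_eq_one]; exact h
    exact Multiplicative.ofAdd.injective this
  · exact hwd (sec _) ⟨k, hk⟩ (hs _)

variable {D}

theorem Good.fst_bijective {g : G} {h : Equiv.Perm D.Pt} (a : D.Good g h) :
    Function.Bijective fun x => (h (x, D.base)).1 := by
  refine Finite.surjective_iff_bijective.1 fun y => ?_
  refine ⟨(h⁻¹ (y, D.base)).1, ?_⟩
  show (h ((h⁻¹ (y, D.base)).1, D.base)).1 = y
  rw [← a.fst_eq _ (h⁻¹ (y, D.base)).2, Prod.mk.eta, perm_apply_inv]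

/-- The value of the quotient of two elements over the same group element. -/
theorem phi_div {U V : ↥D.K} (h : D.proj U = D.proj V) :
    phi (U * V⁻¹ : ↥D.K).1.2 =
      ∑ x : Fin D.N, (D.val (U.1.2 (x, D.base)).2 - D.val (V.1.2 (x, D.base)).2) := by
  have hk : D.proj (U * V⁻¹) = 1 := by rw [map_mul, map_inv, h, mul_inv_cancel]
  set w := U * V⁻¹
  rw [phi]
  refine (Fintype.sum_bijective _ (Good.fst_bijective (V.2 : D.Good V.1.1 V.1.2)) _ _
    fun x => ?_).symm
  obtain ⟨n, hn⟩ := (good_of_ker hk).shift (V.1.2 (x, D.base)).1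
  have e : U.1.2 = w.1.2 * V.1.2 := by
    show _ = (U * V⁻¹ * V).1.2
    rw [inv_mul_cancel_right]
  rw [hn, val_tau_pow, D.val_base, zero_add, e, Equiv.Perm.mul_apply]
  conv_lhs => rw [← Prod.mk.eta (p := V.1.2 (x, D.base)), hn, val_tau_pow]
  rw [add_sub_cancel_left]

end Datum

end Cfsg.Agent.MultM22
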