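import Cfsg.Agent.Lib.Golay.Mathieu
import Cfsg.Agent.Lib.Golay.SylowCert
import Cfsg.Agent.Lib.MultM22.Induced

/-!
Tables for an induced central extension of a group of packed permutations of the 24 points, their
kernel checks, and the resulting datum, lifts and witness.
-/

set_option autoImplicit false

namespace Cfsg.Agent.MultM22

open Cfsg Cfsg.Agent.Golay24
open scoped Pointwise

noncomputable section

/-- Entry `i` of a table: 64 entries of `w` bits in a number, numbers in rows of eight. -/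
def look (T : List (List ℕ)) (w i : ℕ) : ℕ :=
  (T.getD (i / 512) []).getD (i / 64 % 8) 0 / 2 ^ (w * (i % 64)) % 2 ^ w

/-- The raw tables. -/
structure Raw where
  N : ℕ
  n : ℕ
  M : ℕ
  T : List (List ℕ)
  qs : List ℕ
  L : List ℕ
  Li : List ℕ
  lq : List ℕ
  R : List ℕ
  Ri : List ℕ
  lw : List (List (List ℕ))
  base : List ℕ
  m1 : ℕ
  m2 : ℕ
  gens : List ℕ
  steps : List (List (List ℕ))

theorem isIdP_idP : isIdP idP = true := by decide +kernel

namespace Raw

variable (D : Raw)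

/-- Number of states. -/
def S : ℕ := D.n * D.M

/-- Coset representative. -/
def tx (x : ℕ) : ℕ := look D.T 120 x

/-- The element of a state. -/
def qe (s : ℕ) : ℕ := D.qs.getD (s / D.M) 0

/-- A table permutation of the states. -/
def pk (T : List ℕ) (k s : ℕ) : ℕ := T.getD k 0 / 2 ^ (10 * s) % 1024

/-- The shift. -/
def shiftN (s : ℕ) : ℕ := D.M * (s / D.M) + (s % D.M + 1) % D.M

/-- The new coset label. -/
def nx (g x : ℕ) : ℕ := look (D.steps.getD g []) 32 x % 65536

/-- The element of the subgroup met on the way. -/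
def ue (g x : ℕ) : ℕ := look (D.steps.getD g []) 32 x / 65536

/-- A word of left translations on a state. -/
def act : List ℕ → ℕ → ℕ
  | [], s => s
  | k :: w, s => pk D.L k (act w s)

/-- The element of a word. -/
def qword : List ℕ → ℕ
  | [] => idP
  | k :: w => compP (D.lq.getD k 0) (qword w)

/-- The word of an element, in rows of twelve. -/
def lwd (e : ℕ) : List ℕ := (D.lw.getD (e / 12) []).getD (e % 12) []

/-- The separating code of a coset. -/
def code (x : ℕ) : ℕ :=
  2 ^ 24 * (D.base.foldl (fun acc b => 2 ^ 24 * acc + img (D.tx x) b) 0) +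
    Nat.min (img (D.tx x) D.m1) (img (D.tx x) D.m2)

/-- The checks on the subgroup. -/
def groupOk : Bool :=
  Nat.blt 0 D.M && Nat.blt 0 D.n && Nat.blt 0 D.N &&
  D.base.all (fun b => Nat.blt b 16777216) && Nat.blt D.m1 16777216 && Nat.blt D.m2 16777216 &&
  (List.range D.n).all (fun e => validP (D.qs.getD e 0) &&
    (compP (D.qs.getD e 0) idP == D.qs.getD e 0) &&
    D.base.all (fun b => img (D.qs.getD e 0) b == b) &&
    ((img (D.qs.getD e 0) D.m1 == D.m1 && img (D.qs.getD e 0) D.m2 == D.m2) ||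
      (img (D.qs.getD e 0) D.m1 == D.m2 && img (D.qs.getD e 0) D.m2 == D.m1)) &&
    (List.range D.n).all (fun e' => e == e' || D.qs.getD e 0 != D.qs.getD e' 0)) &&
  (List.range D.L.length).all (fun k => validP (D.lq.getD k 0) &&
    (List.range D.S).all fun s =>
      Nat.blt (pk D.L k s) D.S && Nat.blt (pk D.Li k s) D.S &&
      (pk D.Li k (pk D.L k s) == s) && (pk D.L k (pk D.Li k s) == s) &&
      (pk D.L k (D.shiftN s) == D.shiftN (pk D.L k s)) &&
      (compP (D.lq.getD k 0) (D.qe s) == D.qe (pk D.L k s))) &&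
  (List.range D.R.length).all (fun k => (List.range D.S).all fun s =>
      Nat.blt (pk D.R k s) D.S && Nat.blt (pk D.Ri k s) D.S &&
      (pk D.Ri k (pk D.R k s) == s) && (pk D.R k (pk D.Ri k s) == s) &&
      (pk D.R k (D.shiftN s) == D.shiftN (pk D.R k s)) &&
      (List.range D.L.length).all fun i => pk D.L i (pk D.R k s) == pk D.R k (pk D.L i s)) &&
  (List.range D.n).all (fun e => (e == 0) || (List.range D.R.length).any fun k =>
    (List.range e).any fun e' => pk D.R k (D.M * e') / D.M == e) &&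
  (List.range D.n).all (fun e => (D.lwd e).all (fun k => Nat.blt k D.L.length) &&
    (D.qword (D.lwd e) == D.qs.getD e 0))

/-- The checks on the cosets. -/
def cosetOk : Bool :=
  (List.range D.N).all fun x => validP (D.tx x) &&
    (x + 1 == D.N || Nat.blt (D.code x) (D.code (x + 1)))

/-- The checks on a generator. -/
def stepOk (g : ℕ) : Bool :=
  validP (D.gens.getD g 0) && (List.range D.N).all fun x =>
    Nat.blt (D.nx g x) D.N && Nat.blt (D.ue g x) D.n &&
      (compP (D.gens.getD g 0) (D.tx x) == compP (D.tx (D.nx g x)) (D.qs.getD (D.ue g x) 0))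

/-- Trace of a word. -/
def trace : List ℕ → ℕ × ℕ → ℕ × ℕ
  | [], p => p
  | g :: w, p =>
    let r := trace w p
    (D.nx g r.1, D.act (D.lwd (D.ue g r.1)) r.2)

/-- The element of a word in the generators. -/
def gword : List ℕ → ℕ
  | [] => idP
  | g :: w => compP (D.gens.getD g 0) (gword w)

/-- The sum of the differences of two traces. -/
def diffSum (u v : List ℕ) : ℕ → ℕ
  | 0 => 0
  | x + 1 => (diffSum u v x + (D.trace u (x, 0)).2 % D.M + D.M - (D.trace v (x, 0)).2 % D.M) % D.M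

/-- The check of a witness. -/
def witOk (u v : List ℕ) (z : ℕ) : Bool :=
  (u ++ v).all (fun g => Nat.blt g D.gens.length) && (D.gword u == D.gword v) &&
    (D.diffSum u v D.N == z)

/-- All checks. -/
structure Ok : Prop where
  group : D.groupOk = true
  coset : D.cosetOk = true
  step : ∀ g < D.gens.length, D.stepOk g = true

variable {D} (h : D.Ok)
include h

theorem group_facts :
    (0 < D.M ∧ 0 < D.n ∧ 0 < D.N) ∧
    ((∀ b ∈ D.base, b < 16777216) ∧ D.m1 < 16777216 ∧ D.m2 < 16777216) ∧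
    (∀ e < D.n, validP (D.qs.getD e 0) = true ∧ compP (D.qs.getD e 0) idP = D.qs.getD e 0 ∧
      (∀ b ∈ D.base, img (D.qs.getD e 0) b = b) ∧
      ((img (D.qs.getD e 0) D.m1 = D.m1 ∧ img (D.qs.getD e 0) D.m2 = D.m2) ∨
        (img (D.qs.getD e 0) D.m1 = D.m2 ∧ img (D.qs.getD e 0) D.m2 = D.m1)) ∧
      ∀ e' < D.n, D.qs.getD e 0 = D.qs.getD e' 0 → e = e') ∧
    (∀ k < D.L.length, validP (D.lq.getD k 0) = true ∧ ∀ s < D.S,
      pk D.L k s < D.S ∧ pk D.Li k s < D.S ∧ pk D.Li k (pk D.L k s) = s ∧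
      pk D.L k (pk D.Li k s) = s ∧ pk D.L k (D.shiftN s) = D.shiftN (pk D.L k s) ∧
      compP (D.lq.getD k 0) (D.qe s) = D.qe (pk D.L k s)) ∧
    (∀ k < D.R.length, ∀ s < D.S, pk D.R k s < D.S ∧ pk D.Ri k s < D.S ∧
      pk D.Ri k (pk D.R k s) = s ∧ pk D.R k (pk D.Ri k s) = s ∧
      pk D.R k (D.shiftN s) = D.shiftN (pk D.R k s) ∧
      ∀ i < D.L.length, pk D.L i (pk D.R k s) = pk D.R k (pk D.L i s)) ∧
    (∀ e < D.n, e = 0 ∨ ∃ k < D.R.length, ∃ e' < e, pk D.R k (D.M * e') / D.M = e) ∧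
    (∀ e < D.n, (∀ k ∈ D.lwd e, k < D.L.length) ∧
      D.qword (D.lwd e) = D.qs.getD e 0) := by
  have := h.group
  simp only [groupOk, Bool.and_eq_true, Bool.or_eq_true, List.all_eq_true, List.any_eq_true,
    List.mem_range, Nat.blt_eq, beq_iff_eq, bne_iff_ne] at this
  obtain ⟨⟨⟨⟨⟨⟨⟨⟨⟨⟨h1, h2⟩, h3⟩, h4⟩, h5⟩, h6⟩, hq⟩, hL⟩, hR⟩, hp⟩, hw⟩ := this
  refine ⟨⟨h1, h2, h3⟩, ⟨h4, h5, h6⟩, fun e he => ?_, fun k hk => ⟨(hL k hk).1, fun s hs => ?_⟩,
    fun k hk s hs => ?_, hp, hw⟩
  · obtain ⟨⟨⟨⟨a, b⟩, c⟩, d⟩, f⟩ := hq e he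
    exact ⟨a, b, c, d, fun e' he' hee => (f e' he').resolve_right (not_not_intro hee)⟩
  · obtain ⟨⟨⟨⟨⟨a, b⟩, c⟩, d⟩, f⟩, g⟩ := (hL k hk).2 s hs
    exact ⟨a, b, c, d, f, g⟩
  · obtain ⟨⟨⟨⟨⟨a, b⟩, c⟩, d⟩, f⟩, g⟩ := hR k hk s hs
    exact ⟨a, b, c, d, f, g⟩

theorem lt_n {s : ℕ} (hs : s < D.S) : s / D.M < D.n :=
  Nat.div_lt_of_lt_mul (by rw [mul_comm]; exact hs)

theorem qe_valid (s : Fin D.S) : validP (D.qe s) = true :=
  ((group_facts h).2.2.1 _ (lt_n h s.isLt)).1

theorem shiftN_lt {s : ℕ} (hs : s < D.S) : D.shiftN s < D.S := by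
  have h1 := lt_n h hs
  have h2 := Nat.mod_lt (s % D.M + 1) (group_facts h).1.1
  have h3 : D.M * (s / D.M) + D.M ≤ D.M * D.n := by
    rw [← Nat.mul_succ]; exact Nat.mul_le_mul_left _ h1
  unfold shiftN
  show _ < D.n * D.M
  rw [mul_comm D.n D.M]
  omega

theorem shiftN_div (s : ℕ) : D.shiftN s / D.M = s / D.M := by
  rw [shiftN, Nat.mul_add_div (group_facts h).1.1,
    Nat.div_eq_of_lt (Nat.mod_lt _ (group_facts h).1.1), add_zero]

theorem shiftN_mod (s : ℕ) : D.shiftN s % D.M = (s % D.M + 1) % D.M := by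
  rw [shiftN, Nat.mul_add_mod, Nat.mod_mod]

/-- The shift as a permutation. -/
def tauP : Equiv.Perm (Fin D.S) :=
  Equiv.ofBijective (fun s => ⟨D.shiftN s, shiftN_lt h s.isLt⟩)
    (Finite.injective_iff_bijective.1 fun a b e => by
      have e' : D.shiftN a = D.shiftN b := congrArg Fin.val e
      have hM := (group_facts h).1.1
      have hd : a.val / D.M = b.val / D.M := by rw [← shiftN_div h a, e', shiftN_div h]
      have hm : (a.val % D.M + 1) % D.M = (b.val % D.M + 1) % D.M := by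
        rw [← shiftN_mod h, e', shiftN_mod h]
      have ha := Nat.mod_lt a.val hM
      have hb := Nat.mod_lt b.val hM
      have hm' : a.val % D.M = b.val % D.M := by
        rcases Nat.lt_or_ge (a.val % D.M + 1) D.M with h1 | h1 <;>
          rcases Nat.lt_or_ge (b.val % D.M + 1) D.M with h2 | h2
        · rw [Nat.mod_eq_of_lt h1, Nat.mod_eq_of_lt h2] at hm; omega
        · rw [Nat.mod_eq_of_lt h1, show b.val % D.M + 1 = D.M by omega, Nat.mod_self] at hm; omega
        · rw [show a.val % D.M + 1 = D.M by omega, Nat.mod_eq_of_lt h2, Nat.mod_self] at hm; omega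
        · omega
      exact Fin.ext (by rw [← Nat.div_add_mod a.val D.M, ← Nat.div_add_mod b.val D.M, hd, hm']))

theorem tauP_val (s : Fin D.S) : ((tauP h s) : ℕ) = D.shiftN s := rfl

/-- A right translation. -/
def RP (k : Fin D.R.length) : Equiv.Perm (Fin D.S) where
  toFun s := ⟨pk D.R k s, ((group_facts h).2.2.2.2.1 k k.isLt s s.isLt).1⟩
  invFun s := ⟨pk D.Ri k s, ((group_facts h).2.2.2.2.1 k k.isLt s s.isLt).2.1⟩
  left_inv s := Fin.ext ((group_facts h).2.2.2.2.1 k k.isLt s s.isLt).2.2.1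
  right_inv s := Fin.ext ((group_facts h).2.2.2.2.1 k k.isLt s s.isLt).2.2.2.1

theorem tau_pow_val (s : Fin D.S) : ∀ a : ℕ,
    (((tauP h) ^ a) s).val = D.M * (s.val / D.M) + (s.val % D.M + a) % D.M
  | 0 => by
    show s.val = _
    rw [add_zero, Nat.mod_mod, Nat.div_add_mod]
  | a + 1 => by
    rw [pow_succ', Equiv.Perm.mul_apply, tauP_val, shiftN, tau_pow_val s a,
      Nat.mul_add_div (group_facts h).1.1, Nat.div_eq_of_lt (Nat.mod_lt _ (group_facts h).1.1),
      add_zero, Nat.mul_add_mod, Nat.mod_mod, Nat.mod_add_mod, add_assoc]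

theorem code_inj {x y : ℕ} (hx : x < D.N) (hy : y < D.N) (e : D.code x = D.code y) : x = y := by
  have hc := h.coset
  simp only [cosetOk, List.all_eq_true, List.mem_range, Bool.and_eq_true, Bool.or_eq_true,
    beq_iff_eq, Nat.blt_eq] at hc
  have mono : ∀ d a, a + d + 1 < D.N → D.code a < D.code (a + d + 1) := by
    intro d
    induction d with
    | zero => intro a ha; exact ((hc a (by omega)).2).resolve_left (by omega)
    | succ d ih =>
      intro a ha
      exact (ih a (by omega)).trans (((hc (a + d + 1) (by omega)).2).resolve_left (by omega))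
  rcases Nat.lt_trichotomy x y with hlt | heq | hlt
  · exact absurd e (Nat.ne_of_lt (by
      have := mono (y - x - 1) x (by omega); rwa [show x + (y - x - 1) + 1 = y by omega] at this))
  · exact heq
  · exact absurd e.symm (Nat.ne_of_lt (by
      have := mono (x - y - 1) y (by omega); rwa [show y + (x - y - 1) + 1 = x by omega] at this))

theorem tx_valid {x : ℕ} (hx : x < D.N) : validP (D.tx x) = true := by
  have hc := h.coset
  simp only [cosetOk, List.all_eq_true, List.mem_range, Bool.and_eq_true] at hc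
  exact (hc x hx).1

theorem prod_img {x : ℕ} (hx : x < D.N) (s : Fin D.S) (b : ℕ) :
    (toPerm (D.tx x) * toPerm (D.qe s)) • setOf b = setOf (img (D.tx x) (img (D.qe s) b)) := by
  rw [mul_smul, smul_setOf (qe_valid h s), smul_setOf (tx_valid h hx)]

theorem sep' (x y : Fin D.N) (s s' : Fin D.S)
    (e : toPerm (D.tx x) * toPerm (D.qe s) = toPerm (D.tx y) * toPerm (D.qe s')) :
    x = y ∧ s.val / D.M = s'.val / D.M := by
  obtain ⟨-, hm, hq, -, -, -, -⟩ := group_facts h
  have hb : ∀ b, img (D.tx x) (img (D.qe s) b) = img (D.tx y) (img (D.qe s') b) := fun b =>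
    setOf_inj (img_lt (tx_valid h x.isLt) _) (img_lt (tx_valid h y.isLt) _)
      (by rw [← prod_img h x.isLt, e, prod_img h y.isLt])
  have hbase : ∀ b ∈ D.base, img (D.tx x) b = img (D.tx y) b := fun b hbm => by
    have := hb b
    rw [qe, qe, (hq _ (lt_n h s.isLt)).2.2.1 b hbm, (hq _ (lt_n h s'.isLt)).2.2.1 b hbm] at this
    exact this
  have hpair : Nat.min (img (D.tx x) D.m1) (img (D.tx x) D.m2) =
      Nat.min (img (D.tx y) D.m1) (img (D.tx y) D.m2) := by
    have e1 := hb D.m1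
    have e2 := hb D.m2
    simp only [qe] at e1 e2
    rcases (hq _ (lt_n h s.isLt)).2.2.2.1 with ⟨a1, a2⟩ | ⟨a1, a2⟩ <;>
      rcases (hq _ (lt_n h s'.isLt)).2.2.2.1 with ⟨b1, b2⟩ | ⟨b1, b2⟩ <;>
      rw [a1, b1] at e1 <;> rw [a2, b2] at e2 <;> simp only [e1, e2]
    all_goals exact Nat.min_comm _ _
  have hfold : ∀ (l : List ℕ) (a : ℕ), (∀ b ∈ l, img (D.tx x) b = img (D.tx y) b) →
      l.foldl (fun acc b => 2 ^ 24 * acc + img (D.tx x) b) a =
      l.foldl (fun acc b => 2 ^ 24 * acc + img (D.tx y) b) a := by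
    intro l
    induction l with
    | nil => intro a _; rw [List.foldl_nil, List.foldl_nil]
    | cons b l ih =>
      intro a hl
      rw [List.foldl_cons, List.foldl_cons, hl b List.mem_cons_self]
      exact ih _ fun c hc => hl c (List.mem_cons_of_mem _ hc)
  have hxy : x = y := Fin.ext (code_inj h x.isLt y.isLt (by
    rw [code, code, hfold _ _ hbase, hpair]))
  subst hxy
  refine ⟨rfl, ?_⟩
  have := mul_left_cancel e
  exact (hq _ (lt_n h s.isLt)).2.2.2.2 _ (lt_n h s'.isLt) (toPerm_inj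
    (hq _ (lt_n h s.isLt)).1 (hq _ (lt_n h s'.isLt)).1
    (hq _ (lt_n h s.isLt)).2.1 (hq _ (lt_n h s'.isLt)).2.1 this)

/-- The datum. -/
def datum : Datum (Equiv.Perm GolayPt) where
  N := D.N
  S := D.S
  M := D.M
  r := D.R.length
  t x := toPerm (D.tx x)
  q s := toPerm (D.qe s)
  tau := tauP h
  R := RP h
  val s := (s.val : ZMod D.M)
  base := ⟨0, Nat.mul_pos (group_facts h).1.2.1 (group_facts h).1.1⟩
  val_base := Nat.cast_zero
  val_tau s := by
    rw [tauP_val, shiftN, Nat.cast_add, Nat.cast_mul, ZMod.natCast_self, zero_mul, zero_add,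
      ZMod.natCast_mod, Nat.cast_add, ZMod.natCast_mod, Nat.cast_one]
  tau_pow := Equiv.ext fun s => Fin.ext (by
    rw [tau_pow_val h, Nat.add_mod_right, Nat.mod_mod, Nat.div_add_mod]; rfl)
  tau_R i := Equiv.ext fun s => Fin.ext
    (((group_facts h).2.2.2.2.1 i i.isLt s s.isLt).2.2.2.2.1).symm
  q_tau s := by rw [qe, qe, tauP_val, shiftN_div h]
  sep x y s s' e := by
    obtain ⟨hxy, hd⟩ := sep' h x y s s' e
    refine ⟨hxy, s'.val % D.M + D.M - s.val % D.M, Fin.ext ?_⟩
    have hM := (group_facts h).1.1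
    have := Nat.mod_lt s.val hM
    have := Nat.mod_lt s'.val hM
    rw [tau_pow_val h, show s.val % D.M + (s'.val % D.M + D.M - s.val % D.M) = s'.val % D.M + D.M by
      omega, Nat.add_mod_right, Nat.mod_mod, hd, Nat.div_add_mod]
  reach P h0 hR hT := by
    obtain ⟨⟨hM, -, -⟩, -, -, -, -, hp, -⟩ := group_facts h
    have hfib : ∀ s : Fin D.S, P s → ∀ s' : Fin D.S, s.val / D.M = s'.val / D.M → P s' := by
      intro s hs s' hd
      have hpow : ∀ a : ℕ, P (((tauP h) ^ a) s) := by
        intro a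
        induction a with
        | zero => exact hs
        | succ a ih => rw [pow_succ', Equiv.Perm.mul_apply]; exact hT _ ih
      have e : ((tauP h) ^ (s'.val % D.M + D.M - s.val % D.M)) s = s' := Fin.ext (by
        have := Nat.mod_lt s.val hM
        have := Nat.mod_lt s'.val hM
        rw [tau_pow_val h, show s.val % D.M + (s'.val % D.M + D.M - s.val % D.M) = s'.val % D.M + D.M
          by omega, Nat.add_mod_right, Nat.mod_mod, hd, Nat.div_add_mod])
      exact e ▸ hpow _
    have main : ∀ e, ∀ s : Fin D.S, s.val / D.M = e → P s := by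
      intro e
      induction e using Nat.strong_induction_on with
      | _ e ih =>
        intro s hs
        rcases hp e (hs ▸ lt_n h s.isLt) with rfl | ⟨k, hk, e', he', hk'⟩
        · exact hfib _ h0 s (by rw [hs, Nat.zero_div])
        · have hlt : D.M * e' < D.S := by
            have := lt_n h s.isLt
            rw [S, mul_comm D.n]
            exact Nat.mul_lt_mul_of_pos_left (by omega) hM
          exact hfib _ (hR ⟨_, hlt⟩ ⟨k, hk⟩ (ih e' he' ⟨_, hlt⟩
            (by simp [Nat.mul_div_cancel_left _ hM]))) s (by rw [hs]; exact hk')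
    exact fun s => main _ s rfl

/-- A word of left translations as a map. -/
theorem act_facts : ∀ (w : List ℕ), (∀ k ∈ w, k < D.L.length) → ∀ s < D.S,
    D.act w s < D.S ∧ D.act w (D.shiftN s) = D.shiftN (D.act w s) ∧
    (∀ i < D.R.length, D.act w (pk D.R i s) = pk D.R i (D.act w s)) ∧
    validP (D.qword w) = true ∧
    toPerm (D.qe (D.act w s)) = toPerm (D.qword w) * toPerm (D.qe s)
  | [], _, s, hs => ⟨hs, rfl, fun _ _ => rfl, idP_spec.1, by
      rw [show toPerm (D.qword []) = 1 from toPerm_eq_one_of_isIdP idP_spec.1 isIdP_idP,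
        one_mul]; rfl⟩
  | k :: w, hw, s, hs => by
    obtain ⟨-, -, hq, hL, hR, -, -⟩ := group_facts h
    have hk := hw k List.mem_cons_self
    obtain ⟨h1, h2, h3, h4, h5⟩ := act_facts w (fun j hj => hw j (List.mem_cons_of_mem _ hj)) s hs
    obtain ⟨hv, hL'⟩ := hL k hk
    refine ⟨(hL' _ h1).1, ?_, fun i hi => ?_, validP_compP hv h4, ?_⟩
    · show pk D.L k (D.act w (D.shiftN s)) = _
      rw [h2, (hL' _ h1).2.2.2.2.1]; rfl
    · show pk D.L k (D.act w (pk D.R i s)) = _
      rw [h3 i hi, (hR i hi _ h1).2.2.2.2.2 k hk]; rfl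
    · show toPerm (D.qe (pk D.L k (D.act w s))) = toPerm (compP _ _) * _
      rw [toPerm_compP hv h4, ← (hL' _ h1).2.2.2.2.2,
        toPerm_compP hv (qe_valid h ⟨_, h1⟩), h5, mul_assoc]

theorem act_inj : ∀ (w : List ℕ), (∀ k ∈ w, k < D.L.length) → ∀ s < D.S, ∀ s' < D.S,
    D.act w s = D.act w s' → s = s'
  | [], _, _, _, _, _, e => e
  | k :: w, hw, s, hs, s', hs', e => by
    have hw' : ∀ j ∈ w, j < D.L.length := fun j hj => hw j (List.mem_cons_of_mem _ hj)
    have h1 := (act_facts h w hw' s hs).1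
    have h2 := (act_facts h w hw' s' hs').1
    have hL := ((group_facts h).2.2.2.1 k (hw k List.mem_cons_self)).2
    have := congrArg (pk D.Li k) (show pk D.L k (D.act w s) = pk D.L k (D.act w s') from e)
    rw [(hL _ h1).2.2.1, (hL _ h2).2.2.1] at this
    exact act_inj w hw' s hs s' hs' this

theorem step_facts (g : Fin D.gens.length) (x : Fin D.N) :
    validP (D.gens.getD g 0) = true ∧ D.nx g x < D.N ∧ D.ue g x < D.n ∧
    compP (D.gens.getD g 0) (D.tx x) = compP (D.tx (D.nx g x)) (D.qs.getD (D.ue g x) 0) := by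
  have := h.step g g.isLt
  simp only [stepOk, Bool.and_eq_true, List.all_eq_true, List.mem_range, Nat.blt_eq,
    beq_iff_eq] at this
  exact ⟨this.1, (this.2 x x.isLt).1.1, (this.2 x x.isLt).1.2, (this.2 x x.isLt).2⟩

/-- The image of a point under a lift. -/
def liftF (g : Fin D.gens.length) (p : Fin D.N × Fin D.S) : Fin D.N × Fin D.S :=
  (⟨D.nx g p.1, (step_facts h g p.1).2.1⟩,
    ⟨D.act (D.lwd (D.ue g p.1)) p.2,
      (act_facts h _ ((group_facts h).2.2.2.2.2.2 _ (step_facts h g p.1).2.2.1).1 p.2 p.2.isLt).1⟩)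

theorem liftF_compat (g : Fin D.gens.length) (p : Fin D.N × Fin D.S) :
    toPerm (D.tx (liftF h g p).1) * toPerm (D.qe (liftF h g p).2) =
      toPerm (D.gens.getD g 0) * (toPerm (D.tx p.1) * toPerm (D.qe p.2)) := by
  obtain ⟨hv, hy, hu, he⟩ := step_facts h g p.1
  obtain ⟨hw, hqw⟩ := (group_facts h).2.2.2.2.2.2 _ hu
  show toPerm (D.tx (D.nx g p.1)) * toPerm (D.qe (D.act _ p.2)) = _
  rw [(act_facts h _ hw p.2 p.2.isLt).2.2.2.2, hqw, ← mul_assoc, ← mul_assoc,
    ← toPerm_compP (tx_valid h hy) ((group_facts h).2.2.1 _ hu).1, ← he,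
    toPerm_compP hv (tx_valid h p.1.isLt)]

theorem liftF_inj (g : Fin D.gens.length) : Function.Injective (liftF h g) := by
  intro p p' e
  have e1 := liftF_compat h g p
  rw [e, liftF_compat h g p'] at e1
  obtain ⟨hx, -⟩ := sep' h p'.1 p.1 p'.2 p.2 (mul_left_cancel e1)
  refine Prod.ext hx.symm (Fin.ext ?_)
  have e2 := congrArg (fun z : Fin D.N × Fin D.S => z.2.val) e
  simp only [liftF, ← hx] at e2
  exact (act_inj h _ ((group_facts h).2.2.2.2.2.2 _ (step_facts h g p'.1).2.2.1).1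
    _ p.2.isLt _ p'.2.isLt (by rwa [hx] at e2 ⊢))

/-- The lift of a generator. -/
def liftG (g : Fin D.gens.length) : ↥(datum h).K :=
  ⟨(toPerm (D.gens.getD g 0), Equiv.ofBijective (liftF h g)
    (Finite.injective_iff_bijective.1 (liftF_inj h g))),
    { compat := liftF_compat h g
      commR := fun i p => Prod.ext rfl (Fin.ext ((act_facts h _
        ((group_facts h).2.2.2.2.2.2 _ (step_facts h g p.1).2.2.1).1 p.2 p.2.isLt).2.2.1 i i.isLt))
      commT := fun p => Prod.ext rfl (Fin.ext (act_facts h _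
        ((group_facts h).2.2.2.2.2.2 _ (step_facts h g p.1).2.2.1).1 p.2 p.2.isLt).2.1) }⟩

/-- The lift of a word. -/
def liftW (w : List (Fin D.gens.length)) : ↥(datum h).K := (w.map (liftG h)).prod

theorem liftW_apply : ∀ (w : List (Fin D.gens.length)) (x : Fin D.N) (s : Fin D.S),
    (((liftW h w).1.2 (x, s)).1.val, ((liftW h w).1.2 (x, s)).2.val) =
      D.trace (w.map Fin.val) (x.val, s.val)
  | [], _, _ => rfl
  | g :: w, x, s => by
    have ih := liftW_apply w x s
    show ((liftF h g ((liftW h w).1.2 (x, s))).1.val, (liftF h g ((liftW h w).1.2 (x, s))).2.val) =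
      (D.nx g (D.trace (w.map Fin.val) (x.val, s.val)).1,
        D.act (D.lwd (D.ue g (D.trace (w.map Fin.val) (x.val, s.val)).1))
          (D.trace (w.map Fin.val) (x.val, s.val)).2)
    rw [← ih]
    rfl

theorem liftW_proj : ∀ (w : List (Fin D.gens.length)),
    validP (D.gword (w.map Fin.val)) = true ∧
      (datum h).proj (liftW h w) = toPerm (D.gword (w.map Fin.val))
  | [] => ⟨idP_spec.1, (toPerm_eq_one_of_isIdP idP_spec.1 isIdP_idP).symm⟩
  | g :: w => by
    obtain ⟨h1, h2⟩ := liftW_proj w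
    have hv : validP (D.gens.getD g 0) = true := by
      have := h.step g g.isLt
      simp only [stepOk, Bool.and_eq_true] at this
      exact this.1
    refine ⟨validP_compP hv h1, ?_⟩
    show (datum h).proj (liftG h g * liftW h w) = toPerm (compP _ _)
    rw [map_mul, h2, toPerm_compP hv h1]
    rfl

theorem diffSum_eq (u v : List (Fin D.gens.length)) : ∀ m (hm : m ≤ D.N),
    ((D.diffSum (u.map Fin.val) (v.map Fin.val) m : ℕ) : ZMod D.M) = ∑ x : Fin m,
      ((((liftW h u).1.2 (Fin.castLE hm x, (datum h).base)).2.val : ZMod D.M) -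
        (((liftW h v).1.2 (Fin.castLE hm x, (datum h).base)).2.val : ZMod D.M))
  | 0, _ => by simp [diffSum]
  | m + 1, hm => by
    have eu := congrArg Prod.snd (liftW_apply h u ⟨m, hm⟩ (datum h).base)
    have ev' := congrArg Prod.snd (liftW_apply h v ⟨m, hm⟩ (datum h).base)
    rw [Fin.sum_univ_castSucc, diffSum, ZMod.natCast_mod,
      Nat.cast_sub (by have := Nat.mod_lt (D.trace (v.map Fin.val) (m, 0)).2 (group_facts h).1.1; omega),
      Nat.cast_add, Nat.cast_add, ZMod.natCast_mod, ZMod.natCast_mod, ZMod.natCast_self, add_zero,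
      diffSum_eq u v m (by omega), add_sub_assoc]
    congr 1
    have eu' : ((D.trace (u.map Fin.val) (m, 0)).2 : ℕ) =
        ((liftW h u).1.2 (⟨m, hm⟩, (datum h).base)).2.val := eu.symm
    have ev'' : ((D.trace (v.map Fin.val) (m, 0)).2 : ℕ) =
        ((liftW h v).1.2 (⟨m, hm⟩, (datum h).base)).2.val := ev'.symm
    rw [eu', ev'']
    rfl

/-- The witness. -/
theorem witness (u v : List (Fin D.gens.length)) (z : ℕ)
    (hc : D.witOk (u.map Fin.val) (v.map Fin.val) z = true) :
    (datum h).proj (liftW h u) = (datum h).proj (liftW h v) ∧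
      Datum.phi (D := datum h) (liftW h u * (liftW h v)⁻¹).1.2 = (z : ZMod D.M) := by
  simp only [witOk, Bool.and_eq_true, beq_iff_eq] at hc
  obtain ⟨⟨-, hg⟩, hz⟩ := hc
  have hp : (datum h).proj (liftW h u) = (datum h).proj (liftW h v) := by
    rw [(liftW_proj h u).2, (liftW_proj h v).2, hg]
  refine ⟨hp, ?_⟩
  rw [Datum.phi_div hp, ← hz, diffSum_eq h u v D.N le_rfl]
  rfl

end Raw

end

end Cfsg.Agent.MultM22
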