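import Cfsg.Agent.Lib.MultM22.TwoData
import Cfsg.Agent.Lib.MultM22.Table

/-!
Kernel checks of the certificate at two for the multiplier of M22.
-/

set_option autoImplicit false
set_option maxRecDepth 100000

namespace Cfsg.Agent.MultM22

open Cfsg.Agent.Golay24

noncomputable section

/-- A generator of M22 by number. -/
def genP (k : ℕ) : ℕ := m22Cert.gens.getD k 0

/-- The product of a word of packed permutations. -/
def wordP : List ℕ → ℕ
  | [] => idP
  | k :: w => compP (genP k) (wordP w)

/-- A word in the chosen elements as a word in the generators. -/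
def flatW (gw : List (List ℕ)) (w : List ℕ) : List ℕ := w.flatMap fun i => gw.getD i []

/-- The packed product of a word in the chosen elements. -/
def valW (gw : List (List ℕ)) : List ℕ → ℕ
  | [] => idP
  | i :: w => compP (wordP (gw.getD i [])) (valW gw w)

/-- The identities in the group. -/
def twoGroupOk (C : StemCert.Cert) (gw cw : List (List ℕ)) : Bool :=
  (gw ++ cw).all (fun w => w.all fun k => Nat.blt k 2) &&
  C.rels.all (fun r => valW gw r.1 == valW gw r.2) &&
  C.slots.all (fun s => compP (wordP (cw.getD s.1 [])) (valW gw (C.lets s.2.1)) ==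
    compP (valW gw (C.lets s.2.2)) (wordP (cw.getD s.1 []))) &&
  decide ((List.range C.N).map fun e => valW gw (C.lets e)).Nodup &&
  (List.range C.N).all fun e => compP (valW gw (C.lets e)) idP == valW gw (C.lets e)

theorem certTwo_check : certTwo.shapeOk = true ∧ certTwo.tabOk = true ∧ certTwo.linOk = true ∧
    certTwo.boundOk 4 = true ∧ certTwo.N = 128 ∧ certTwo.n = 8 := by decide +kernel

theorem certTwo_group : twoGroupOk certTwo gensTwo conjTwo = true := by decide +kernel

end

end Cfsg.Agent.MultM22
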