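import Cfsg.Agent.Lib.StemCert.Bound
import Cfsg.Agent.Lib.MultL34.Upper
import Cfsg.Agent.Lib.MultM22.TwoCheck

/-!
Kernels of stem extensions of M22 are cyclic of order dividing twelve: transfers for the odd part and
a certificate in a Sylow subgroup for the even part.
-/

set_option autoImplicit false

namespace Cfsg.Agent.MultM22

open Cfsg Cfsg.Agent.Golay24

noncomputable section

/-- A packed word as an element of M22. -/
theorem wordP_spec : ∀ w : List ℕ, (∀ k ∈ w, k < 2) →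
    validP (wordP w) = true ∧ toPerm (wordP w) ∈ Spor.M22
  | [], _ => ⟨idP_spec.1, toPerm_idP ▸ one_mem _⟩
  | k :: w, hw => by
    obtain ⟨h1, h2⟩ := wordP_spec w fun j hj => hw j (List.mem_cons_of_mem _ hj)
    have hk : genP k ∈ m22Cert.gens := by
      have := hw k List.mem_cons_self
      interval_cases k <;> simp [genP, m22Cert]
    have h := m22Cert_ok
    simp only [Bool.and_eq_true] at h
    have hv := m22Cert.gen_valid h.1.1.1.1 hk
    refine ⟨validP_compP hv h1, ?_⟩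
    show toPerm (compP (genP k) (wordP w)) ∈ Spor.M22
    rw [toPerm_compP hv h1]
    exact mul_mem (m22_gens hk) h2

theorem getD_lt {gw : List (List ℕ)} (h : ∀ w ∈ gw, ∀ k ∈ w, k < 2) (i : ℕ) :
    ∀ k ∈ gw.getD i [], k < 2 := by
  intro k hk
  by_cases h' : i < gw.length
  · rw [List.getD_eq_getElem _ _ h'] at hk
    exact h _ (List.getElem_mem h') k hk
  · rw [List.getD_eq_default _ _ (not_lt.1 h')] at hk
    simp at hk

theorem valW_spec {gw : List (List ℕ)} (h : ∀ w ∈ gw, ∀ k ∈ w, k < 2) : ∀ w : List ℕ,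
    validP (valW gw w) = true ∧
      toPerm (valW gw w) = (w.map fun i => toPerm (wordP (gw.getD i []))).prod
  | [] => ⟨idP_spec.1, toPerm_idP⟩
  | i :: w => by
    obtain ⟨h1, h2⟩ := valW_spec h w
    have hv := (wordP_spec _ (getD_lt h i)).1
    refine ⟨validP_compP hv h1, ?_⟩
    show toPerm (compP _ _) = _
    rw [toPerm_compP hv h1, h2, List.map_cons, List.prod_cons]

theorem index_of_card {H : Subgroup ↥Spor.M22} {a b : ℕ} (hH : Nat.card H = a)
    (hab : a * b = 443520) : H.index = b := by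
  have := Subgroup.card_mul_index H
  rw [hH, card_M22, ← hab] at this
  exact Nat.eq_of_mul_eq_mul_left (Nat.pos_of_ne_zero (fun h => by rw [h] at hab; simp at hab)) this

theorem cert_bound {Γ : Type} [Group Γ] [Finite Γ] (π : Γ →* ↥Spor.M22)
    (hπ : Function.Surjective π) (hc : π.ker ≤ Subgroup.center Γ) (hd : π.ker ≤ commutator Γ)
    (hexp : ∀ z ∈ π.ker, z ^ 8 = 1) : ∃ cv : Γ, π.ker ≤ Subgroup.zpowers cv ∧ cv ^ 4 = 1 := by
  classical
  obtain ⟨hshape, htab, hlin, hbd, hN, hn⟩ := certTwo_check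
  have hg := certTwo_group
  simp only [twoGroupOk, Bool.and_eq_true, List.all_eq_true, Nat.blt_eq, beq_iff_eq,
    decide_eq_true_eq, List.mem_range] at hg
  obtain ⟨⟨⟨⟨hlt, hrel⟩, hslot⟩, hnd⟩, hpk⟩ := hg
  have hgw : ∀ w ∈ gensTwo, ∀ k ∈ w, k < 2 := fun w hw => hlt w (List.mem_append_left _ hw)
  have hcw : ∀ w ∈ conjTwo, ∀ k ∈ w, k < 2 := fun w hw => hlt w (List.mem_append_right _ hw)
  let g : ℕ → ↥Spor.M22 := fun i => ⟨_, (wordP_spec _ (getD_lt hgw i)).2⟩
  let γ : ℕ → ↥Spor.M22 := fun i => ⟨_, (wordP_spec _ (getD_lt hcw i)).2⟩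
  have hval : ∀ w : List ℕ,
      ((w.map g).prod : Equiv.Perm GolayPt) = toPerm (valW gensTwo w) := fun w => by
    rw [(valW_spec hgw w).2, Subgroup.val_list_prod, List.map_map]
    rfl
  obtain ⟨cv, hle, -, hk⟩ := StemCert.ker_le_of_cert certTwo hshape htab hlin g γ
    (fun r hr => Subtype.ext (by
      rw [hval, hval, hrel (certTwo.rel r) (by
        rw [StemCert.Cert.rel, List.getD_eq_getElem _ _ hr]; exact List.getElem_mem _)]))
    (fun s hs => Subtype.ext (by
      have h := hslot (certTwo.slot s) (by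
        rw [StemCert.Cert.slot, List.getD_eq_getElem _ _ hs]; exact List.getElem_mem _)
      simp only [StemCert.Cert.sP, Subgroup.coe_mul, hval]
      have hv := (wordP_spec _ (getD_lt hcw (certTwo.slot s).1)).1
      show toPerm (wordP (conjTwo.getD (certTwo.slot s).1 [])) * toPerm _ =
        toPerm _ * toPerm (wordP (conjTwo.getD (certTwo.slot s).1 []))
      rw [← toPerm_compP hv (valW_spec hgw _).1, ← toPerm_compP (valW_spec hgw _).1 hv, h]))
    (fun e he f hf hef => by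
      refine List.inj_on_of_nodup_map hnd (List.mem_range.2 he) (List.mem_range.2 hf) ?_
      have h := congrArg Subtype.val hef
      simp only [StemCert.Cert.sP, hval] at h
      exact toPerm_inj (valW_spec hgw _).1 (valW_spec hgw _).1 (hpk e he) (hpk f hf) h)
    (fun H hH => by rw [hn, index_of_card (b := 3465) (hH.trans hN) (by norm_num)]; norm_num)
    π hπ hc hd (by rw [hn]; exact hexp)
  exact ⟨cv, hle, hk 4 hbd⟩

variable {E : Type} [Group E] [Finite E] {π : E →* ↥Spor.M22}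

theorem prime_part (hπ : Function.Surjective π) (hc : π.ker ≤ Subgroup.center E)
    (hd : π.ker ≤ commutator E) (p m : ℕ) (hp : p.Prime) (hm : p * m = 443520) :
    ∀ v ∈ π.ker, v ^ m = 1 := by
  intro v hv
  haveI : Fact p.Prime := ⟨hp⟩
  haveI : Finite ↥Spor.M22 := Nat.finite_of_card_ne_zero (by rw [card_M22]; norm_num)
  obtain ⟨a, ha⟩ := exists_prime_orderOf_dvd_card' (G := ↥Spor.M22) p
    (by rw [card_M22, ← hm]; exact dvd_mul_right p m)
  have hi : (Subgroup.zpowers a).index = m :=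
    index_of_card (by rw [Nat.card_zpowers, ha]) hm
  obtain ⟨c, hc1, hle⟩ := MultL34.comm_le_zpowers hc hπ (Subgroup.zpowers a) 1 a (one_mem _)
    (Subgroup.mem_zpowers a) (Subgroup.zpowers_le.2 (Subgroup.subset_closure (by simp)))
    (by simp) (n := 1) (pow_one 1)
  rw [pow_one] at hc1
  have := hle (hi ▸ MultL34.pow_index_mem π hπ hc hd (Subgroup.zpowers a) hv)
  rw [hc1, Subgroup.zpowers_one_eq_bot, Subgroup.mem_bot] at this
  exact this

theorem three_part (hπ : Function.Surjective π) (hc : π.ker ≤ Subgroup.center E)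
    (hd : π.ker ≤ commutator E) :
    ∃ c : E, c ^ 3 = 1 ∧ ∀ v ∈ π.ker, v ^ 49280 ∈ Subgroup.zpowers c := by
  haveI : Fact (Nat.Prime 3) := ⟨Nat.prime_three⟩
  haveI : Finite ↥Spor.M22 := Nat.finite_of_card_ne_zero (by rw [card_M22]; norm_num)
  obtain ⟨P, hP⟩ := Sylow.exists_subgroup_card_pow_prime (G := ↥Spor.M22) 3 (n := 2)
    (by rw [card_M22]; norm_num)
  have hPi : P.index = 49280 := index_of_card hP (by norm_num)
  have hPc : ∀ a b : P, a * b = b * a := IsPGroup.commutative_of_card_eq_prime_sq hP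
  obtain ⟨a, b, hab, hor⟩ := MultL34.two_gen (p := 3) hP
  have hgen : P ≤ Subgroup.closure {(a : ↥Spor.M22), (b : ↥Spor.M22)} := by
    intro x hx
    have := Subgroup.mem_map_of_mem P.subtype (hab ▸ Subgroup.mem_top (⟨x, hx⟩ : P))
    rwa [MonoidHom.map_closure, Set.image_pair] at this
  rcases hor with ha | hb
  · obtain ⟨c, h1, h2⟩ := MultL34.comm_le_zpowers hc hπ P a b a.2 b.2 hgen
      (congrArg Subtype.val (hPc a b)) (n := 3) (by simpa using congrArg Subtype.val ha)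
    exact ⟨c, h1, fun v hv => h2 (hPi ▸ MultL34.pow_index_mem π hπ hc hd P hv)⟩
  · subst hb
    obtain ⟨c, h1, h2⟩ := MultL34.comm_le_zpowers hc hπ P (1 : ↥Spor.M22) a (one_mem _) a.2
      (by rwa [Set.pair_comm] at hgen) (by simp) (n := 1) (pow_one 1)
    exact ⟨c, by rw [pow_one] at h1; rw [h1, one_pow],
      fun v hv => h2 (hPi ▸ MultL34.pow_index_mem π hπ hc hd P hv)⟩

theorem two_part (hπ : Function.Surjective π) (hc : π.ker ≤ Subgroup.center E)
    (hd : π.ker ≤ commutator E) :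
    ∃ x ∈ π.ker, ∀ v ∈ π.ker, (∃ w ∈ π.ker, v ^ 4 = w ^ 8) ∧
      ∃ i : ℤ, ∃ w ∈ π.ker, v = x ^ i * w ^ 8 := by
  classical
  letI : CommGroup π.ker :=
    { (inferInstance : Group π.ker) with
      mul_comm := fun a b => Subtype.ext (Subgroup.mem_center_iff.1 (hc b.2) a) }
  let S : Subgroup π.ker := (powMonoidHom 8 : π.ker →* π.ker).range
  let N : Subgroup E := S.map π.ker.subtype
  have hN : N ≤ π.ker := Subgroup.map_subtype_le _
  haveI : N.Normal := ⟨fun x hx g => by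
    have := Subgroup.mem_center_iff.1 (hc (hN hx)) g
    rwa [this, mul_inv_cancel_right]⟩
  have hmemN : ∀ z : E, z ∈ N → ∃ w ∈ π.ker, z = w ^ 8 := by
    rintro _ ⟨_, ⟨w, rfl⟩, rfl⟩
    exact ⟨w.1, w.2, by simp⟩
  let q : E ⧸ N →* ↥Spor.M22 := QuotientGroup.lift N π hN
  have hqs : Function.Surjective q := fun g => by
    obtain ⟨x, rfl⟩ := hπ g
    exact ⟨QuotientGroup.mk x, rfl⟩
  have hqc : q.ker ≤ Subgroup.center (E ⧸ N) := by
    intro z hz
    obtain ⟨x, rfl⟩ := QuotientGroup.mk_surjective z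
    rw [Subgroup.mem_center_iff]
    intro w
    obtain ⟨y, rfl⟩ := QuotientGroup.mk_surjective w
    show ((y * x : E) : E ⧸ N) = ((x * y : E) : E ⧸ N)
    rw [Subgroup.mem_center_iff.1 (hc (show x ∈ π.ker from hz)) y]
  have hqd : q.ker ≤ commutator (E ⧸ N) := by
    intro z hz
    obtain ⟨x, rfl⟩ := QuotientGroup.mk_surjective z
    have : QuotientGroup.mk' N x ∈ (commutator E).map (QuotientGroup.mk' N) :=
      Subgroup.mem_map_of_mem _ (hd hz)
    rw [commutator_def, Subgroup.map_commutator] at this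
    rw [commutator_def]
    exact Subgroup.commutator_mono le_top le_top this
  have hq8 : ∀ z ∈ q.ker, z ^ 8 = 1 := by
    intro z hz
    obtain ⟨x, rfl⟩ := QuotientGroup.mk_surjective z
    show ((x ^ 8 : E) : E ⧸ N) = 1
    rw [QuotientGroup.eq_one_iff]
    exact ⟨⟨x, hz⟩ ^ 8, ⟨⟨x, hz⟩, rfl⟩, by simp⟩
  obtain ⟨cv, hle, hcv⟩ := cert_bound q hqs hqc hqd hq8
  haveI : IsCyclic q.ker := isCyclic_of_injective (Subgroup.inclusion hle)
    (Subgroup.inclusion_injective hle)
  obtain ⟨g, hg⟩ := IsCyclic.exists_generator (α := q.ker)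
  obtain ⟨x, hx⟩ := QuotientGroup.mk_surjective g.1
  have hxk : x ∈ π.ker := by
    have : q (QuotientGroup.mk x) = 1 := by rw [hx]; exact g.2
    exact this
  refine ⟨x, hxk, fun v hv => ⟨?_, ?_⟩⟩
  · obtain ⟨j, hj⟩ := Subgroup.mem_zpowers_iff.1 (hle (show QuotientGroup.mk v ∈ q.ker from hv))
    refine hmemN _ ?_
    rw [← QuotientGroup.eq_one_iff, QuotientGroup.mk_pow, ← hj, ← zpow_natCast, ← zpow_mul,
      mul_comm, zpow_mul, zpow_natCast, hcv, one_zpow]
  · obtain ⟨i, hi⟩ := Subgroup.mem_zpowers_iff.1 (hg ⟨QuotientGroup.mk v, hv⟩)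
    have hm : (x ^ i)⁻¹ * v ∈ N := by
      rw [← QuotientGroup.eq, QuotientGroup.mk_zpow, hx]
      exact congrArg Subtype.val hi
    obtain ⟨w, hw, e⟩ := hmemN _ hm
    exact ⟨i, w, hw, by rw [← e, mul_inv_cancel_left]⟩

theorem exists_onto (hπ : Function.Surjective π) (hc : π.ker ≤ Subgroup.center E)
    (hd : π.ker ≤ commutator E) :
    ∃ φ : Multiplicative (ZMod 12) →* π.ker, Function.Surjective φ := by
  classical
  obtain ⟨c, hc3, hthree⟩ := three_part hπ hc hd
  obtain ⟨x, hx, htwo⟩ := two_part hπ hc hd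
  have h384 : ∀ v ∈ π.ker, v ^ 384 = 1 := by
    intro v hv
    have e3 : v ^ (49280 * 3) = 1 := by
      obtain ⟨i, hi⟩ := Subgroup.mem_zpowers_iff.1 (hthree v hv)
      rw [pow_mul, ← hi, ← zpow_natCast (c ^ i), ← zpow_mul, mul_comm, zpow_mul, zpow_natCast,
        hc3, one_zpow]
    have e5 := prime_part hπ hc hd 5 88704 (by norm_num) (by norm_num) v hv
    have e7 := prime_part hπ hc hd 7 63360 (by norm_num) (by norm_num) v hv
    have e11 := prime_part hπ hc hd 11 40320 (by norm_num) (by norm_num) v hv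
    rw [show 384 = Nat.gcd (Nat.gcd (49280 * 3) 88704) (Nat.gcd 63360 40320) by decide +kernel]
    exact pow_gcd_eq_one.2 ⟨pow_gcd_eq_one.2 ⟨e3, e5⟩, pow_gcd_eq_one.2 ⟨e7, e11⟩⟩
  have step : ∀ k : ℕ, ∀ w ∈ π.ker, ∃ r ∈ π.ker, w ^ (4 * k) = r ^ (8 * k) := by
    intro k w hw
    obtain ⟨r, hr, e⟩ := (htwo w hw).1
    exact ⟨r, hr, by rw [pow_mul, e, ← pow_mul]⟩
  have h12 : ∀ v ∈ π.ker, v ^ 12 = 1 := by
    intro v hv
    obtain ⟨w1, h1, e1⟩ := step 1 v hv
    obtain ⟨w2, h2, e2⟩ := step 2 w1 h1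
    obtain ⟨w3, h3, e3⟩ := step 4 w2 h2
    obtain ⟨w4, h4, e4⟩ := step 8 w3 h3
    obtain ⟨w5, h5, e5⟩ := step 16 w4 h4
    norm_num at e1 e2 e3 e4 e5
    rw [show 12 = 4 * 3 by norm_num, pow_mul, e1, e2, e3, e4, e5, ← pow_mul]
    exact h384 w5 h5
  set y := x ^ 9 with hy
  have hy4 : y ^ 4 = 1 := by
    rw [hy, ← pow_mul, show 9 * 4 = 12 * 3 by norm_num, pow_mul, h12 x hx, one_pow]
  have hcy : Commute c y := Subgroup.mem_center_iff.1 (hc (pow_mem hx 9)) c
  have hgc : c = (c * y) ^ 4 := by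
    rw [hcy.mul_pow, hy4, mul_one, show 4 = 3 + 1 by norm_num, pow_add, hc3, one_mul, pow_one]
  have hgy : y = (c * y) ^ 9 := by
    rw [hcy.mul_pow, show (c : E) ^ 9 = 1 by rw [show 9 = 3 * 3 by norm_num, pow_mul, hc3, one_pow],
      one_mul, show 9 = 4 * 2 + 1 by norm_num, pow_add, pow_mul, hy4, one_pow, one_mul, pow_one]
  have hle : π.ker ≤ Subgroup.zpowers (c * y) := by
    intro v hv
    have e4 : v ^ 4 = (v ^ 49280) ^ 2 := by
      rw [← pow_mul, show 49280 * 2 = 12 * 8213 + 4 by norm_num, pow_add, pow_mul, h12 v hv,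
        one_pow, one_mul]
    have hv4 : v ^ 4 ∈ Subgroup.zpowers (c * y) := by
      rw [e4]
      refine pow_mem (?_ : _ ∈ _) 2
      have hc' : Subgroup.zpowers c ≤ Subgroup.zpowers (c * y) :=
        Subgroup.zpowers_le.2 (by
          have := pow_mem (Subgroup.mem_zpowers (c * y)) 4
          rwa [← hgc] at this)
      exact hc' (hthree v hv)
    have hv9 : v ^ 9 ∈ Subgroup.zpowers (c * y) := by
      obtain ⟨i, w, hw, e⟩ := (htwo v hv).2
      have hxw : Commute (x ^ i) (w ^ 8) := Subgroup.mem_center_iff.1 (hc (pow_mem hw 8)) _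
      rw [e, hxw.mul_pow, ← pow_mul w, show 8 * 9 = 12 * 6 by norm_num, pow_mul, h12 w hw, one_pow,
        mul_one, ← zpow_natCast (x ^ i), ← zpow_mul, mul_comm, zpow_mul, zpow_natCast, ← hy]
      refine zpow_mem ?_ i
      have := pow_mem (Subgroup.mem_zpowers (c * y)) 9
      rwa [← hgy] at this
    have hsplit : v = v ^ 4 * v ^ 9 := by
      rw [← pow_add, show 4 + 9 = 12 + 1 by norm_num, pow_add, h12 v hv, one_mul, pow_one]
    rw [hsplit]
    exact mul_mem hv4 hv9
  haveI : IsCyclic π.ker := isCyclic_of_injective (Subgroup.inclusion hle)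
    (Subgroup.inclusion_injective hle)
  obtain ⟨g, hg⟩ := IsCyclic.exists_generator (α := π.ker)
  have hg12 : g ^ 12 = 1 := Subtype.ext (by
    show (g : E) ^ 12 = 1
    exact h12 g.1 g.2)
  refine ⟨MonoidHom.mk' (fun v => g ^ v.toAdd.val) (fun v w => ?_), fun v => ?_⟩
  · rw [toAdd_mul, ZMod.val_add, ← pow_eq_pow_mod _ hg12, pow_add]
  · obtain ⟨i, hi⟩ := Subgroup.mem_zpowers_iff.1 (hg v)
    refine ⟨Multiplicative.ofAdd (i : ZMod 12), ?_⟩
    simp only [MonoidHom.mk'_apply, toAdd_ofAdd]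
    rw [← hi, ← zpow_natCast, ← ZMod.cast_eq_val, ZMod.coe_intCast,
      zpow_eq_zpow_emod' i hg12]

end

end Cfsg.Agent.MultM22
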