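import Cfsg.Agent.Lib.MultM22.Cover
import Cfsg.Agent.Lib.MultM22.Upper

/-!
The Schur multiplier of M22 is cyclic of order twelve.
-/

set_option autoImplicit false

namespace Cfsg.Agent.MultM22

theorem hasMultiplier : Cfsg.HasCyclicSchurMultiplier ↥Cfsg.Spor.M22 12 :=
  ⟨⟨Cover, inferInstance, inferInstance, coverHom, coverHom_stem, cover_kernel⟩,
    fun _ _ _ _ hσ => exists_onto hσ.1 hσ.2.1 hσ.2.2⟩

end Cfsg.Agent.MultM22
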